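import Cfsg.Agent.S0856
import Cfsg.Agent.S0867
import Cfsg.Agent.S0135
import Cfsg.Agent.CharactersDeep.ExtUnique
import Cfsg.Agent.CharactersDeep.ExtGroup
import Cfsg.Agent.H955.FSBase

/-!
# Real extensions (team SR, S4970, P3; helper893)

`N` a normal `2`-subgroup of `G`, `θ` an invariant irreducible character of `N` which has a real extension to `P ≥ N`,
`P` of odd index in `G` and `P/N` of exponent two. Then `θ` has a real extension to `G`.
-/

set_option autoImplicit false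
set_option linter.unusedSectionVars false

universe u

namespace Cfsg.Agent.H893.FR

open Cfsg
open Cfsg.Agent.Characters.Core
open scoped ComplexConjugate

variable {G : Type u} [Group G] [Finite G]

/-- extension to `N R`, `R` a Sylow `p`-subgroup, `p` odd -/
theorem ext_odd (N : Subgroup G) [hN : N.Normal] (h2 : IsPGroup 2 N) {θ : N → ℂ} (hθ : IsIrrCharacter N θ)
    (hinv : ∀ (g : G) (n : N), θ ⟨g * n * g⁻¹, hN.conj_mem (n : G) n.2 g⟩ = θ n) {p : ℕ} (hp : p.Prime)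
    (hp2 : p ≠ 2) : ∃ (R : Subgroup G) (hNR : N ≤ R) (η : R → ℂ), Nat.Coprime R.index p ∧
        Cfsg.IsIrrCharacter R η ∧ ∀ n : N, η ⟨(n : G), hNR n.2⟩ = θ n := by
  classical
  have : Fact p.Prime := ⟨hp⟩
  obtain ⟨P₀⟩ : Nonempty (Sylow p G) := inferInstance
  have hNP : N ≤ N ⊔ (P₀ : Subgroup G) := le_sup_left
  have hPP : (P₀ : Subgroup G) ≤ N ⊔ (P₀ : Subgroup G) := le_sup_right
  obtain ⟨R, hR⟩ : ∃ R : Subgroup G, R = N ⊔ (P₀ : Subgroup G) := ⟨_, rfl⟩
  rw [← hR] at hNP hPP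
  have hn : (N.subgroupOf R).Normal := hN.subgroupOf _
  let e : N.subgroupOf R ≃* N := Subgroup.subgroupOfEquivOfLe hNP
  have hθ' : IsIrrCharacter (N.subgroupOf R) (fun x => θ ⟨(x : R), Subgroup.mem_subgroupOf.mp x.2⟩) :=
    isIrr_comp e.toMonoidHom e.surjective hθ
  obtain ⟨d, -, hd⟩ := isIrr_apply_one hθ
  have hcard : Nat.card (N.subgroupOf R) = Nat.card N := Nat.card_congr e.toEquiv
  have hidx : ∃ k : ℕ, (N.subgroupOf R).index = p ^ k := by
    have h1 : N.relIndex R = N.relIndex (P₀ : Subgroup G) := by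
      rw [hR, sup_comm]
      exact Subgroup.relIndex_sup_right _ _
    have h2 : N.relIndex (P₀ : Subgroup G) ∣ Nat.card P₀ := Subgroup.relIndex_dvd_card _ _
    obtain ⟨n, hn⟩ := IsPGroup.iff_card.1 P₀.isPGroup'
    rw [hn] at h2
    obtain ⟨k, -, hk⟩ := (Nat.dvd_prime_pow hp).1 h2
    exact ⟨k, h1.trans hk⟩
  obtain ⟨a, ha⟩ := IsPGroup.iff_card.1 h2
  have hcop : Nat.Coprime (N.subgroupOf R).index (2 ^ a) := by
    obtain ⟨k, hk⟩ := hidx
    rw [hk]
    exact Nat.Coprime.pow _ _ ((Nat.coprime_primes hp Nat.prime_two).2 hp2)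
  have hcop' : Nat.Coprime (N.subgroupOf R).index
      (detOrder (fun x : N.subgroupOf R => θ ⟨(x : R), Subgroup.mem_subgroupOf.mp x.2⟩) * d) := by
    refine Nat.Coprime.mul_right ?_ ?_
    · refine Nat.Coprime.coprime_dvd_right ?_ hcop
      rw [← ha, ← hcard]
      unfold detOrder
      obtain ⟨δ, hδ⟩ := CharactersDeep.ExtUnique.exists_hom_detChar hθ'
      apply orderOf_dvd_of_pow_eq_one
      funext g
      rw [Pi.pow_apply, hδ, Pi.one_apply, ← Units.val_pow_eq_pow_val, ← map_pow, pow_card_eq_one']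
      simp
    · refine Nat.Coprime.coprime_dvd_right ?_ hcop
      rw [← ha]
      obtain ⟨n, ρ, hρ, rfl⟩ := hθ
      have h1 := Cfsg.Agent.S0135.result ρ
      rw [Representation.char_one, Module.finrank_fin_fun] at hd
      rw [Module.finrank_fin_fun] at h1
      have : n = d := by exact_mod_cast hd
      rwa [this] at h1
  obtain ⟨η, ⟨hη, hres, -⟩, -⟩ := Cfsg.Agent.S0867.result (N.subgroupOf R) _ hθ'
    (fun g n => hinv (g : G) ⟨((n : _) : G), Subgroup.mem_subgroupOf.mp n.2⟩) d hd hcop'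
  refine ⟨R, hNP, η, ?_, hη, fun n => hres ⟨⟨(n : G), hNP n.2⟩, Subgroup.mem_subgroupOf.2 n.2⟩⟩
  have h1 : R.index ∣ (P₀ : Subgroup G).index := Subgroup.index_dvd_of_le hPP
  rw [Nat.coprime_comm]
  exact (Nat.Prime.coprime_iff_not_dvd hp).2 fun h => P₀.not_dvd_index (h.trans h1)

/-- a linear character of the quotient fixing an extension of an irreducible character is trivial -/
theorem hom_eq_one (N : Subgroup G) [hN : N.Normal] {χ : G → ℂ} (hχ : IsIrrCharacter G χ)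
    (hχN : IsIrrCharacter N (fun n : N => χ n)) (β : G →* ℂˣ) (hβN : ∀ n ∈ N, β n = 1)
    (h : ∀ g, χ g * β g = χ g) (g : G) : β g = 1 := by
  classical
  have := Fintype.ofFinite G
  have := Fintype.ofFinite N
  have hone : ((fun _ => 1) * (fun k : N => χ k) : N → ℂ) = fun k : N => χ k := by
    funext k; simp
  have key := S0856.result N (fun _ => 1) (fun k : N => χ k) isIrr_one hχN
    (fun g n => rfl) (fun g n => isIrr_isClassFunction hχ n g) (by rw [hone]; exact hχN) χ hχ (fun n => rfl)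
  have hmem : ∀ ν : G →* ℂˣ, (∀ n ∈ N, ν n = 1) →
      (fun g => (ν g : ℂ)) ∈ {β : G → ℂ | IsIrrCharacter G β ∧ classInner (indFun N (fun _ => 1)) β ≠ 0} := by
    intro ν hν
    have h0 : IsIrrCharacter G (fun g => (ν g : ℂ)) := Characters.Linear.isIrrCharacter_hom ν
    refine ⟨h0, ?_⟩
    rw [Cfsg.Agent.CharactersDeep.NormalInd.classInner_indFun N (fun _ => 1) _ (isIrr_isClassFunction h0)]
    have h1 : (fun k : N => ((ν (k : G) : ℂˣ) : ℂ)) = (fun _ => 1 : N → ℂ) := by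
      funext k
      rw [hν k k.2, Units.val_one]
    rw [h1]
    have h2 : classInner (fun _ => 1 : N → ℂ) (fun _ => 1 : N → ℂ) = 1 := classInner_irr_self isIrr_one
    rw [h2]
    exact one_ne_zero
  have h3 := key.injOn (hmem β hβN) (hmem 1 (fun _ _ => rfl)) (by
    funext g
    show (β g : ℂ) * χ g = ((1 : ℂˣ) : ℂ) * χ g
    rw [Units.val_one, one_mul, mul_comm]
    exact h g)
  exact Units.ext (congrFun h3 g)

/-- **The real extension.** -/
theorem ext_real (N P : Subgroup G) [hN : N.Normal] (hNP : N ≤ P) (h2 : IsPGroup 2 N) (hodd : Odd P.index)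
    (hsq : ∀ p ∈ P, p * p ∈ N) {θ : N → ℂ} (hθ : IsIrrCharacter N θ)
    (hinv : ∀ (g : G) (n : N), θ ⟨g * n * g⁻¹, hN.conj_mem (n : G) n.2 g⟩ = θ n)
    {η : P → ℂ} (hη : IsIrrCharacter P η) (hηr : ∀ p, (η p).im = 0) (hηN : ∀ n : N, η ⟨n, hNP n.2⟩ = θ n) :
    ∃ χ : G → ℂ, IsIrrCharacter G χ ∧ (∀ g, (χ g).im = 0) ∧ ∀ n : N, χ n = θ n := by
  classical
  obtain ⟨d, -, hd⟩ := isIrr_apply_one hθ
  obtain ⟨χ₀, hχ₀, hres⟩ := CharactersDeep.ExtGroup.extends_of_local N θ hθ hinv d hd fun p hp => by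
    left
    rcases eq_or_ne p 2 with rfl | hp2
    · exact ⟨P, hNP, η, hodd.coprime_two_right, hη, hηN⟩
    · exact ext_odd N h2 hθ hinv hp hp2
  have hconjhom : ∀ {K : Type u} [Group K] [Finite K] (ν : K →* ℂˣ) (k : K), conj (ν k : ℂ) * ν k = 1 := by
    intro K _ _ ν k
    have h0 : IsIrrCharacter K (fun g => (ν g : ℂ)) := Characters.Linear.isIrrCharacter_hom ν
    have h1 := isCharacter_apply_inv (isIrr_isCharacter h0) k
    have h3 : ((ν k⁻¹ : ℂˣ) : ℂ) = conj (ν k : ℂ) := h1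
    rw [← h3, ← Units.val_mul, ← map_mul, inv_mul_cancel, map_one, Units.val_one]
  have hθr : ∀ n, conj (θ n) = θ n := fun n => by
    rw [← hηN]
    exact Complex.conj_eq_iff_im.2 (hηr _)
  obtain ⟨β, hβN, hβ⟩ := CharactersDeep.ExtUnique.exists_hom_mul_of_restrict_eq N (isIrr_isCharacter hχ₀)
    (isIrr_isCharacter (isIrr_conj hχ₀)) hθ hres (fun n => by
      show conj (χ₀ n) = θ n
      rw [hres, hθr])
  obtain ⟨a, m, hm, hcard⟩ := Nat.exists_eq_two_pow_mul_odd (n := Nat.card G) Nat.card_pos.ne'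
  obtain ⟨k, hk⟩ := hm
  -- the twisted extension
  obtain ⟨δ, hδ⟩ : ∃ δ : G →* ℂˣ, ∀ g, δ g = β g ^ (k + 1) := ⟨(powMonoidHom (k + 1)).comp β, fun g => rfl⟩
  obtain ⟨γ, hγ⟩ : ∃ γ : G →* ℂˣ, ∀ g, γ g = (β g)⁻¹ ^ m :=
    ⟨(powMonoidHom m).comp (MonoidHom.comp invMonoidHom β), fun g => rfl⟩
  obtain ⟨χ, hχdef⟩ : ∃ χ : G → ℂ, χ = fun g => χ₀ g * δ g := ⟨_, rfl⟩
  have hχ : IsIrrCharacter G χ := by
    rw [hχdef]
    exact CharactersDeep.ExtUnique.isIrr_mul_hom hχ₀ δ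
  have hχN : ∀ n : N, χ n = θ n := by
    intro n
    rw [hχdef]
    show χ₀ n * δ n = θ n
    rw [hδ, hβN n n.2, one_pow, Units.val_one, mul_one, hres]
  have hχγ : ∀ g, conj (χ g) = χ g * γ g := by
    intro g
    rw [hχdef]
    show conj (χ₀ g * δ g) = χ₀ g * δ g * γ g
    have h3 : conj (χ₀ g) = χ₀ g * β g := hβ g
    have h4 := hconjhom β g
    have h5 : conj (β g : ℂ) = ((β g)⁻¹ : ℂˣ) := by
      rw [Units.val_inv_eq_inv_val]
      exact eq_inv_of_mul_eq_one_left h4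
    rw [map_mul, h3, hδ, hγ, Units.val_pow_eq_pow_val, map_pow, h5, hk]
    have h6 : β g * (β g)⁻¹ ^ (k + 1) = β g ^ (k + 1) * (β g)⁻¹ ^ (2 * k + 1) := by
      rw [show 2 * k + 1 = (k + 1) + k by omega, pow_add _ (k + 1) k, ← mul_assoc, ← mul_pow, mul_inv_cancel,
        one_pow, one_mul, pow_succ', ← mul_assoc, mul_inv_cancel, one_mul]
    have h7 := congrArg (fun z : ℂˣ => (z : ℂ)) h6
    simp only [Units.val_mul, Units.val_pow_eq_pow_val] at h7
    calc χ₀ g * (β g : ℂ) * ((((β g)⁻¹ : ℂˣ) : ℂ) ^ (k + 1)) =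
        χ₀ g * ((β g : ℂ) * ((((β g)⁻¹ : ℂˣ) : ℂ) ^ (k + 1))) := by ring
      _ = _ := by
        rw [h7]
        push_cast
        ring
  have hγN : ∀ n ∈ N, γ n = 1 := by
    intro n hn
    rw [hγ, hβN n hn, inv_one, one_pow]
  have hγ2 : ∀ g, γ g ^ (2 ^ a) = 1 := by
    intro g
    rw [hγ, ← pow_mul, mul_comm, ← hcard, inv_pow, ← map_pow, pow_card_eq_one', map_one, inv_one]
  -- the restriction to `P`
  have hn : (N.subgroupOf P).Normal := hN.subgroupOf _
  let e : N.subgroupOf P ≃* N := Subgroup.subgroupOfEquivOfLe hNP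
  have hθ' : IsIrrCharacter (N.subgroupOf P) (fun x => θ ⟨(x : P), Subgroup.mem_subgroupOf.mp x.2⟩) :=
    isIrr_comp e.toMonoidHom e.surjective hθ
  obtain ⟨α, hαN, hα⟩ := CharactersDeep.ExtUnique.exists_hom_mul_of_restrict_eq (N.subgroupOf P)
    (isIrr_isCharacter hη) (χ' := fun p : P => χ p) (isCharacter_comp P.subtype (isIrr_isCharacter hχ)) hθ'
    (fun n => hηN ⟨(n : P), Subgroup.mem_subgroupOf.mp n.2⟩)
    (fun n => hχN ⟨(n : P), Subgroup.mem_subgroupOf.mp n.2⟩)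
  have hγP : ∀ p ∈ P, γ p = 1 := by
    intro p hp
    refine hom_eq_one (N.subgroupOf P) hη ?_ (γ.comp P.subtype) (fun n hn => hγN n (Subgroup.mem_subgroupOf.1 hn))
      ?_ ⟨p, hp⟩
    · have h3 : (fun n : N.subgroupOf P => η n) =
          fun x : N.subgroupOf P => θ ⟨(x : P), Subgroup.mem_subgroupOf.mp x.2⟩ := by
        funext n
        exact hηN ⟨(n : P), Subgroup.mem_subgroupOf.mp n.2⟩
      rw [h3]
      exact hθ'
    · intro g
      show η g * (γ g : ℂ) = η g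
      have h3 : χ g = η g * α g := hα g
      have h4 := hχγ g
      have h5 := hconjhom α g
      have h6 : (α g : ℂ) * α g = 1 := by
        rw [← Units.val_mul, ← map_mul, hαN (g * g) (Subgroup.mem_subgroupOf.2 (hsq g g.2)), Units.val_one]
      have h7 : conj (α g : ℂ) = α g := by
        calc conj (α g : ℂ) = (conj (α g : ℂ) * α g) * α g := by rw [mul_assoc, h6, mul_one]
          _ = _ := by rw [h5, one_mul]
      rw [h3, map_mul, Complex.conj_eq_iff_im.2 (hηr g), h7] at h4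
      have h8 : (α g : ℂ) ≠ 0 := (α g).ne_zero
      apply mul_right_cancel₀ h8
      rw [h4]
      ring
  -- `γ = 1`
  have hγ1 : ∀ g, γ g = 1 := by
    intro g
    have h3 : γ.ker.index ∣ P.index := Subgroup.index_dvd_of_le fun p hp => hγP p hp
    have h4 : γ g ^ P.index = 1 := by
      obtain ⟨c, hc⟩ := h3
      rw [hc, pow_mul, ← map_pow]
      have h5 : γ (g ^ γ.ker.index) = 1 := Subgroup.pow_index_mem γ.ker g
      rw [h5, one_pow]
    have h5 : Nat.Coprime P.index (2 ^ a) := Nat.Coprime.pow_right _ hodd.coprime_two_right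
    have h6 := Nat.dvd_gcd (orderOf_dvd_of_pow_eq_one h4) (orderOf_dvd_of_pow_eq_one (hγ2 g))
    rw [h5, Nat.dvd_one, orderOf_eq_one_iff] at h6
    exact h6
  refine ⟨χ, hχ, fun g => ?_, hχN⟩
  rw [← Complex.conj_eq_iff_im, hχγ g, hγ1, Units.val_one, mul_one]

end Cfsg.Agent.H893.FR
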