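import Cfsg.Agent.H893.FR.Hei
import Cfsg.Agent.StdRank2.HexFacts
import Cfsg.Agent.StdRank2.HexInv
import Cfsg.Agent.StdRank2.HexSylow
import Cfsg.Agent.H168.SRHex.Levi
import Cfsg.Agent.H168.FRHex.ShortMain

/-!
# The long root involution of `³D₄(q)`, `q` even: characters non-trivial on the centre (S4970, P3; helper893)
-/

set_option autoImplicit false
set_option linter.unusedSectionVars false

universe u v

namespace Cfsg.Agent.H893.FR

open Cfsg Cfsg.Agent.H955.FS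
open Cfsg.Agent.Characters.Core
open Cfsg.Agent.StdRank2.Hex Cfsg.Agent.StdRank2.Hex.HexTwo Cfsg.Agent.SplitTwo

/-- passage to subgroups of a subgroup `X` -/
theorem Hei.subgroupOf {Γ : Type u} [Group Γ] (X : Subgroup Γ) {N P A Z : Subgroup Γ} {lam : Γ → ℂ} (hPX : P ≤ X)
    (NP : N ≤ P) (AP : A ≤ P) (ZA : Z ≤ A) (ZN : Z ≤ N) (PN : ∀ p ∈ P, ∃ a ∈ A, ∃ n ∈ N, p = a * n)
    (cen : ∀ z ∈ Z, ∀ g ∈ X, g * z = z * g)
    (mul : ∀ a ∈ A, ∀ b ∈ A, lam (a * b) = lam a * lam b) (pm : ∀ a ∈ A, lam a = 1 ∨ lam a = -1)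
    (mac : ∀ n ∈ N, n ∉ A → ∃ a ∈ A, a ∈ N ∧ n * a * n⁻¹ ∈ A ∧ lam (n * a * n⁻¹) ≠ lam a)
    (card : Nat.card ↥(A ⊓ N) ^ 2 = Nat.card N * Nat.card Z) :
    Hei (N.subgroupOf X) (P.subgroupOf X) (A.subgroupOf X) (Z.subgroupOf X) (fun g : X => lam g) where
  NP := fun g hg => Subgroup.mem_subgroupOf.2 (NP (Subgroup.mem_subgroupOf.1 hg))
  AP := fun g hg => Subgroup.mem_subgroupOf.2 (AP (Subgroup.mem_subgroupOf.1 hg))
  ZA := fun g hg => Subgroup.mem_subgroupOf.2 (ZA (Subgroup.mem_subgroupOf.1 hg))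
  ZN := fun g hg => Subgroup.mem_subgroupOf.2 (ZN (Subgroup.mem_subgroupOf.1 hg))
  PN := fun p hp => by
    obtain ⟨a, ha, n, hn, e⟩ := PN p (Subgroup.mem_subgroupOf.1 hp)
    exact ⟨⟨a, hPX (AP ha)⟩, Subgroup.mem_subgroupOf.2 ha, ⟨n, hPX (NP hn)⟩, Subgroup.mem_subgroupOf.2 hn,
      Subtype.ext e⟩
  cen := fun z hz g => Subtype.ext (cen z (Subgroup.mem_subgroupOf.1 hz) g g.2)
  mul := fun a ha b hb => mul a (Subgroup.mem_subgroupOf.1 ha) b (Subgroup.mem_subgroupOf.1 hb)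
  pm := fun a ha => pm a (Subgroup.mem_subgroupOf.1 ha)
  mac := fun n hn hnA => by
    obtain ⟨a, ha, haN, h1, h2⟩ := mac n (Subgroup.mem_subgroupOf.1 hn) (fun h => hnA (Subgroup.mem_subgroupOf.2 h))
    exact ⟨⟨a, hPX (AP ha)⟩, Subgroup.mem_subgroupOf.2 ha, Subgroup.mem_subgroupOf.2 haN,
      Subgroup.mem_subgroupOf.2 h1, h2⟩
  card := by
    have e1 : Nat.card ↥(A.subgroupOf X ⊓ N.subgroupOf X) = Nat.card ↥(A ⊓ N) := by
      have : A.subgroupOf X ⊓ N.subgroupOf X = (A ⊓ N).subgroupOf X := rfl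
      rw [this]
      exact Nat.card_congr (Subgroup.subgroupOfEquivOfLe (inf_le_left.trans (AP.trans hPX))).toEquiv
    have e2 : Nat.card ↥(N.subgroupOf X) = Nat.card N :=
      Nat.card_congr (Subgroup.subgroupOfEquivOfLe (NP.trans hPX)).toEquiv
    have e3 : Nat.card ↥(Z.subgroupOf X) = Nat.card Z :=
      Nat.card_congr (Subgroup.subgroupOfEquivOfLe (ZN.trans (NP.trans hPX))).toEquiv
    rw [e1, e2, e3, card]

section Geo

variable {E : Type u} [Field E] {σ : E ≃+* E} {Γ : Type v} [Group Γ] {x : ZMod 12 → E → Γ}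

/-- the sign character of `X₁X₂X₃X₄` -/
noncomputable def lamA (σ : E ≃+* E) (x : ZMod 12 → E → Γ) (mu : Γ → ℂ) (g : Γ) : ℂ :=
  open Classical in if h : ∃ d, σ d = d ∧ ∃ a b c, σ b = b ∧ g = uu x a b c d 0 0 then mu (x 4 h.choose) else 1

variable (h : HexTwo σ x)
include h

theorem lamA_uu (mu : Γ → ℂ) {a b c d : E} (hb : σ b = b) (hd : σ d = d) :
    lamA σ x mu (uu x a b c d 0 0) = mu (x 4 d) := by
  have z : σ (0 : E) = 0 := map_zero σ
  have hex : ∃ d', σ d' = d' ∧ ∃ a' b' c', σ b' = b' ∧ uu x a b c d 0 0 = uu x a' b' c' d' 0 0 :=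
    ⟨d, hd, a, b, c, hb, rfl⟩
  unfold lamA
  rw [dif_pos hex]
  obtain ⟨hd', a', b', c', hb', e⟩ := hex.choose_spec
  have := (h.uu_inj hb hd z hb' hd' z e).2.2.2.1
  rw [← this]

theorem mem_1234 {g : Γ} : g ∈ gen σ x (arc 1 4) ↔ ∃ a b c d, σ b = b ∧ σ d = d ∧ g = uu x a b c d 0 0 := by
  constructor
  · intro hg
    obtain ⟨a, -, g1, hg1, rfl⟩ := (h.mem_gen_first (k := 1) (n := 3) (by norm_num)).1 hg
    obtain ⟨b, c, d, hb, hd, rfl⟩ := h.mem_234.1 hg1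
    exact ⟨a, b, c, d, hb, hd, rfl⟩
  · rintro ⟨a, b, c, d, hb, hd, rfl⟩
    exact (h.mem_gen_first (k := 1) (n := 3) (by norm_num)).2 ⟨a, ok1 a, _, h.mem_234.2 ⟨b, c, d, hb, hd, rfl⟩, rfl⟩

theorem uu_mul4 {a b c d a' b' c' d' : E} (hb : σ b = b) (hd : σ d = d) (hb' : σ b' = b') (hd' : σ d' = d') :
    uu x a b c d 0 0 * uu x a' b' c' d' 0 0 = uu x (a + a') (b + trc σ a' c + b') (c + c') (d + d') 0 0 := by
  have z : σ (0 : E) = 0 := map_zero σ
  rw [h.uu_mul hb hd z hb' hd' z]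
  have e1 : trc σ (shp σ a') (0 : E) = 0 := trc_zero_right _
  have e2 : trc σ a' (shp σ (0 : E)) = 0 := by rw [shp_zero, trc_zero_right]
  have e3 : trc σ c' ((0 : E) + 0 * a') = 0 := by rw [zero_mul, add_zero, trc_zero_right]
  rw [e1, e2, e3, crs_zero_right]
  congr 1 <;> ring

/-- the conditions for `N = X₂…X₆`, `P = X₁…X₆`, `A = X₁X₂X₃X₄`, `Z = X₄`, `X = ⟨X₁, …, X₇⟩` -/
theorem hei_long {mu : Γ → ℂ} (hmul : ∀ a ∈ gen σ x {4}, ∀ b ∈ gen σ x {4}, mu (a * b) = mu a * mu b)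
    (hpm : ∀ a ∈ gen σ x {4}, mu a = 1 ∨ mu a = -1) (hne : ∃ t, σ t = t ∧ mu (x 4 t) ≠ 1) :
    Hei ((gen σ x (arc 2 5)).subgroupOf (gen σ x (arc 1 7))) ((gen σ x (arc 1 6)).subgroupOf (gen σ x (arc 1 7)))
      ((gen σ x (arc 1 4)).subgroupOf (gen σ x (arc 1 7))) ((gen σ x {4}).subgroupOf (gen σ x (arc 1 7)))
      (fun g => lamA σ x mu g) := by
  have z : σ (0 : E) = 0 := map_zero σ
  have hx4 : ∀ {d : E}, σ d = d → x 4 d ∈ gen σ x {4} := fun hd => x_mem_gen (by simp) (ok_of_fix _ hd)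
  refine Hei.subgroupOf _ ?_ ?_ ?_ ?_ ?_ ?_ ?_ ?_ ?_ ?_ ?_
  · exact gen_mono (arc_mono (by norm_num))
  · exact gen_mono (arc_succ_sub (k := 1) (n := 5) (by norm_num))
  · exact gen_mono (arc_mono (by norm_num))
  · refine gen_mono ?_
    intro l hl
    rw [Set.mem_singleton_iff] at hl
    subst hl
    rw [mem_arc]; decide
  · refine gen_mono ?_
    intro l hl
    rw [Set.mem_singleton_iff] at hl
    subst hl
    rw [mem_arc]; decide
  · intro p hp
    obtain ⟨a, ha, v, hv, rfl⟩ := (h.mem_gen_first (k := 1) (n := 5) (by norm_num)).1 hp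
    exact ⟨x 1 a, x_mem_gen (by rw [mem_arc]; decide) ha, v, hv, rfl⟩
  · intro y hy g hg
    obtain ⟨t, ht, rfl⟩ := h.mem_gen_singleton.1 hy
    have e : (4 : ZMod 12) - 3 = 1 := by decide
    exact (h.comm_gen_long (k := 4) (by decide) ht (g := g) (by rw [e]; exact hg)).symm
  · intro g hg g' hg'
    obtain ⟨a, b, c, d, hb, hd, rfl⟩ := (mem_1234 h).1 hg
    obtain ⟨a', b', c', d', hb', hd', rfl⟩ := (mem_1234 h).1 hg'
    rw [uu_mul4 h hb hd hb' hd', lamA_uu h mu hb hd, lamA_uu h mu hb' hd',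
      lamA_uu h mu (by rw [map_add, map_add, hb, hb', h.fix_trc]) (by rw [map_add, hd, hd']),
      h.add 4 d d' (ok_of_fix _ hd) (ok_of_fix _ hd'), hmul _ (hx4 hd) _ (hx4 hd')]
  · intro g hg
    obtain ⟨a, b, c, d, hb, hd, rfl⟩ := (mem_1234 h).1 hg
    rw [lamA_uu h mu hb hd]
    exact hpm _ (hx4 hd)
  · intro n hn hnA
    obtain ⟨b, c, d, e, f, hb, hd, hf, rfl⟩ := h.mem_Q1.1 hn
    obtain ⟨t, ht, hmt⟩ := hne
    -- the conjugation formula
    have key : ∀ B C : E, σ B = B → q x b c d e f * q x B C 0 0 0 * (q x b c d e f)⁻¹ =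
        q x B C (B * f + trc σ C e) 0 0 := by
      intro B C hB
      have hT : σ (B * f + trc σ C e) = B * f + trc σ C e := by rw [map_add, map_mul, hB, hf, h.fix_trc]
      rw [mul_inv_eq_iff_eq_mul, h.q_mul hb hd hf hB z z, h.q_mul hB hT z hb hd hf]
      have e3 : trc σ c (0 : E) = 0 := trc_zero_right _
      rw [e3]
      congr 1 <;> ring
    have hmemA : ∀ B C D : E, σ B = B → σ D = D → q x B C D 0 0 ∈ gen σ x (arc 1 4) := by
      intro B C D hB hD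
      exact (mem_1234 h).2 ⟨0, B, C, D, hB, hD, (h.uq _ _ _ _ _).symm⟩
    have hlam : ∀ B C D : E, σ B = B → σ D = D → lamA σ x mu (q x B C D 0 0) = mu (x 4 D) := by
      intro B C D hB hD
      rw [← h.uq, lamA_uu h mu hB hD]
    have hone : mu (x 4 0) = 1 := by
      rw [h.x_zero]
      have h1 := hmul 1 (one_mem _) 1 (one_mem _)
      rw [mul_one] at h1
      rcases hpm 1 (one_mem _) with h2 | h2
      · exact h2
      · rw [h2] at h1; norm_num at h1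
    have hex : ∃ B C : E, σ B = B ∧ B * f + trc σ C e = t := by
      by_cases hf0 : f = 0
      · have he0 : e ≠ 0 := by
          rintro rfl
          apply hnA
          rw [hf0]
          exact hmemA b c d hb hd
        refine ⟨0, t / e, z, ?_⟩
        rw [zero_mul, zero_add, trc_comm, h.trc_div he0 ht]
      · refine ⟨t / f, 0, by rw [map_div₀, ht, hf], ?_⟩
        rw [trc_zero_left, add_zero, div_mul_cancel₀ _ hf0]
    obtain ⟨B, C, hB, hBC⟩ := hex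
    refine ⟨q x B C 0 0 0, hmemA B C 0 hB z, q_mem hB z z, ?_, ?_⟩
    · rw [key B C hB, hBC]
      exact hmemA B C t hB ht
    · rw [key B C hB, hBC, hlam B C t hB ht, hlam B C 0 hB z, hone]
      exact hmt
  · -- orders
    have e1 : gen σ x (arc 1 4) ⊓ gen σ x (arc 2 5) = gen σ x (arc 2 3) := by
      refine le_antisymm (fun g hg => ?_) (le_inf (gen_mono (arc_succ_sub (k := 1) (n := 3) (by norm_num)))
        (gen_mono (arc_mono (by norm_num))))
      obtain ⟨a, b, c, d, hb, hd, rfl⟩ := (mem_1234 h).1 hg.1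
      obtain ⟨b', c', d', e', f', hb', hd', hf', e⟩ := h.mem_Q1.1 hg.2
      rw [← h.uq] at e
      have ha := (h.uu_inj hb hd z hb' hd' hf' e).1
      rw [ha, h.uq]
      exact h.mem_234.2 ⟨b, c, d, hb, hd, rfl⟩
    have e2 : gen σ x ({4} : Set (ZMod 12)) = gen σ x (arc 4 1) := by
      congr 1
      ext l
      rw [Set.mem_singleton_iff, mem_arc]
      revert l
      decide
    rw [e1, e2, h.card_arc_succ 2 (n := 2) (by norm_num), h.card_arc_succ _ (n := 1) (by norm_num),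
      h.card_arc_succ _ (n := 0) (by norm_num), gen_arc_zero,
      h.card_arc_succ 2 (n := 4) (by norm_num), h.card_arc_succ _ (n := 3) (by norm_num),
      h.card_arc_succ _ (n := 2) (by norm_num), h.card_arc_succ _ (n := 1) (by norm_num),
      h.card_arc_succ _ (n := 0) (by norm_num), gen_arc_zero,
      h.card_arc_succ 4 (n := 0) (by norm_num), gen_arc_zero,
      card_ok_even (k := 2) (by decide), card_ok_odd (k := 2 + 1) (by decide), card_ok_even (k := 2 + 1 + 1) (by decide),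
      card_ok_odd (k := 2 + 1 + 1 + 1) (by decide), card_ok_even (k := 2 + 1 + 1 + 1 + 1) (by decide),
      card_ok_even (k := 4) (by decide), Subgroup.card_bot]
    ring

end Geo

section Fin

variable {E : Type u} [Field E] {σ : E ≃+* E} {Γ : Type v} [Group Γ] {x : ZMod 12 → E → Γ} (h : HexTwo σ x)
include h

theorem long_normal : ((gen σ x (arc 2 5)).subgroupOf (gen σ x (arc 1 7))).Normal :=
  ⟨fun n hn g => Subgroup.mem_subgroupOf.2
    (Cfsg.Agent.H168.SRHex.Levi.Q_conj h (k := 1) g.2 (Subgroup.mem_subgroupOf.1 hn))⟩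

theorem long_sq {p : Γ} (hp : p ∈ gen σ x (arc 1 6)) : p * p ∈ gen σ x (arc 2 5) := by
  obtain ⟨a, ha, v, hv, rfl⟩ := (h.mem_gen_first (k := 1) (n := 5) (by norm_num)).1 hp
  have h1 : x 1 a * v * (x 1 a)⁻¹ ∈ gen σ x (arc (1 + 1) 5) := h.conj_first (by norm_num) ha hv
  have h2 := h.x_sq ha
  have e : x 1 a * v * (x 1 a * v) = (x 1 a * v * (x 1 a)⁻¹) * (x 1 a * x 1 a) * v := by group
  rw [e, h2, mul_one]
  exact mul_mem h1 hv

theorem long_index [Finite E] [Finite Γ] :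
    Odd ((gen σ x (arc 1 6)).subgroupOf (gen σ x (arc 1 7))).index := by
  have hprime : Fact (Nat.Prime 2) := ⟨Nat.prime_two⟩
  have hUX : UU σ x ≤ gen σ x (arc 1 7) := gen_mono (arc_mono (by norm_num))
  obtain ⟨P⟩ : Nonempty (Sylow 2 ↥(gen σ x (arc 1 7))) := inferInstance
  -- `|P| ≤ |U|`
  have hQ : IsPGroup 2 ((P : Subgroup ↥(gen σ x (arc 1 7))).map (gen σ x (arc 1 7)).subtype) := P.isPGroup'.map _
  obtain ⟨p, hp, hpQ⟩ := h.sylow_conj hUX (gen_le_AA _) hQ (by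
    rintro _ ⟨y, -, rfl⟩
    exact y.2)
  have hle : Nat.card P ≤ Nat.card ↥(UU σ x) := by
    refine Nat.card_le_card_of_injective (fun y : P => (⟨p * (y : ↥(gen σ x (arc 1 7))) * p⁻¹,
      hpQ _ ⟨y, y.2, rfl⟩⟩ : ↥(UU σ x))) ?_
    intro y y' hyy
    have h1 := congrArg Subtype.val hyy
    exact Subtype.ext (Subtype.ext (mul_left_cancel (mul_right_cancel h1)))
  -- `U` is a Sylow subgroup
  have hU2 : IsPGroup 2 ((UU σ x).subgroupOf (gen σ x (arc 1 7))) :=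
    h.isPGroup_U.of_equiv (Subgroup.subgroupOfEquivOfLe hUX).symm
  obtain ⟨R, hR⟩ := hU2.exists_le_sylow
  have hcU : Nat.card ↥((UU σ x).subgroupOf (gen σ x (arc 1 7))) = Nat.card ↥(UU σ x) :=
    Nat.card_congr (Subgroup.subgroupOfEquivOfLe hUX).toEquiv
  have hPR : Nat.card R = Nat.card P := by
    rw [R.card_eq_multiplicity, P.card_eq_multiplicity]
  have hRU : (UU σ x).subgroupOf (gen σ x (arc 1 7)) = (R : Subgroup ↥(gen σ x (arc 1 7))) := by
    apply Subgroup.eq_of_le_of_card_ge hR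
    rw [hcU]
    exact hPR.le.trans hle
  have h3 := R.not_dvd_index
  rw [← hRU] at h3
  rw [← Nat.not_even_iff_odd]
  intro h4
  exact h3 h4.two_dvd

theorem long_quo [Finite E] [Finite Γ] [hN : ((gen σ x (arc 2 5)).subgroupOf (gen σ x (arc 1 7))).Normal] :
    FSGood True (↥(gen σ x (arc 1 7)) ⧸ (gen σ x (arc 2 5)).subgroupOf (gen σ x (arc 1 7))) := by
  have h1 : FSGood True ↥(gen σ x {(1 : ZMod 12), 1 + 6}) :=
    Cfsg.Agent.H168.FRHex.ci_good (Cfsg.Agent.H168.FRHex.Short.ci_L h 1)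
  let f : ↥(gen σ x {(1 : ZMod 12), 1 + 6}) →* ↥(gen σ x (arc 1 7)) :=
    Subgroup.inclusion (Cfsg.Agent.H168.SRHex.Levi.L_le 1)
  refine h1.of_surjective ((QuotientGroup.mk' ((gen σ x (arc 2 5)).subgroupOf (gen σ x (arc 1 7)))).comp f) ?_
  intro y
  obtain ⟨⟨g, hg⟩, rfl⟩ := QuotientGroup.mk'_surjective _ y
  obtain ⟨q', hq', l, hl, rfl⟩ := (h.mem_P 1).1 hg
  refine ⟨⟨l, hl⟩, ?_⟩
  show QuotientGroup.mk' _ (f ⟨l, hl⟩) = QuotientGroup.mk' _ _
  refine (QuotientGroup.mk'_eq_mk' _).2 ?_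
  refine ⟨(f ⟨l, hl⟩)⁻¹ * ⟨q', Cfsg.Agent.H168.SRHex.Levi.Q_le (k := 1) hq'⟩ * f ⟨l, hl⟩, ?_, ?_⟩
  · have h5 := hN.conj_mem ⟨q', Cfsg.Agent.H168.SRHex.Levi.Q_le (k := 1) hq'⟩ (Subgroup.mem_subgroupOf.2 hq')
      (f ⟨l, hl⟩)⁻¹
    rwa [inv_inv] at h5
  · apply Subtype.ext
    show l * (l⁻¹ * q' * l) = q' * l
    group

end Fin

end Cfsg.Agent.H893.FR
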